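import Cfsg.Agent.SM.CSBo.B
import Cfsg.Agent.H100.Ppd.Basic
import Cfsg.Agent.H922.OddBase

/-!
# SM (S3570), box CS-Bo: `Ω₉(q) < PΩ₁₆⁺(q)`, `q` odd (helper9)

`boxBo : BoxBo`.
-/

set_option autoImplicit false
set_option linter.unusedSectionVars false

namespace Cfsg.Agent.SM.CS

open Cfsg Cfsg.Geo Matrix Subgroup QuadraticMap Module
open Cfsg.Agent.H925 (qf nondeg_qf)
open Cfsg.Agent.H915.LD (toSoc toSoc_surjective ker_toSoc)

namespace Bo

/-- the lift of `u² (g u g⁻¹)²` is an involution -/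
theorem lift_sq {H T : Type*} [Group H] [Group T] (π : H →* T) (hs : Function.Surjective π)
    (hk : ∀ x, π x = 1 → x * x = 1 ∧ ∀ y, y * x = x * y) {u g : T} (h1 : u * (g * u * g⁻¹) = g * u * g⁻¹ * u)
    (h2 : u ^ 4 = 1) : ∃ s : H, s * s = 1 ∧ π s = u ^ 2 * (g * u * g⁻¹) ^ 2 := by
  obtain ⟨u, rfl⟩ := hs u
  obtain ⟨g, rfl⟩ := hs g
  obtain ⟨e1, e2⟩ := hk (u ^ 4) (by rw [map_pow, h2])
  have e3 : (g * u * g⁻¹) ^ 4 = u ^ 4 := by rw [conj_pow, e2, mul_inv_cancel_right]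
  have e4 : π (g * u * g⁻¹) = π g * π u * (π g)⁻¹ := by rw [map_mul, map_mul, map_inv]
  rw [← e4] at h1 ⊢
  generalize g * u * g⁻¹ = w at *
  obtain ⟨d1, d2⟩ := hk (u * w * u⁻¹ * w⁻¹) (by
    rw [map_mul, map_mul, map_mul, map_inv, map_inv, h1, mul_inv_cancel_right, mul_inv_cancel])
  have d3 : u * w = (u * w * u⁻¹ * w⁻¹) * (w * u) := by group
  generalize u * w * u⁻¹ * w⁻¹ = d at *
  have d4 : Commute (u ^ 2) w := by
    change u ^ 2 * w = w * u ^ 2
    calc u ^ 2 * w = u * (u * w) := by rw [pow_two, mul_assoc]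
      _ = (u * d) * w * u := by rw [d3]; simp only [mul_assoc]
      _ = d * (u * w) * u := by rw [d2]; simp only [mul_assoc]
      _ = (d * d) * (w * u ^ 2) := by rw [d3, pow_two]; simp only [mul_assoc]
      _ = w * u ^ 2 := by rw [d1, one_mul]
  refine ⟨u ^ 2 * w ^ 2, ?_, by rw [map_mul, map_pow, map_pow]⟩
  calc u ^ 2 * w ^ 2 * (u ^ 2 * w ^ 2) = u ^ 2 * (w ^ 2 * u ^ 2) * w ^ 2 := by simp only [mul_assoc]
    _ = u ^ 4 * w ^ 4 := by rw [← (d4.pow_right 2).eq]; group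
    _ = 1 := by rw [e3, e1]

section eig

variable {ι : Type} [Fintype ι] [DecidableEq ι] {K : Type} [Field K] [Fintype K] {Q : (ι → K) → K}

theorem scal (hQ : IsNondegenerateQuadraticForm Q) {v : ι → K} (hv : Q v ≠ 0) {g : GL ι K} (hg : g ∈ isometryGroup K Q)
    (hs : g ∈ scalars ι K) : g = 1 ∨ g = -1 := by
  obtain ⟨c, hc⟩ := (mem_scalars_iff _).1 hs
  have h1 := H925.mem_iso_iff.1 hg v
  rw [hc, Matrix.smul_mulVec, Matrix.one_mulVec, hQ.smul] at h1
  have h2 : ((c : K) - 1) * ((c : K) + 1) = 0 := by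
    apply mul_right_cancel₀ hv
    linear_combination h1
  rcases mul_eq_zero.1 h2 with h3 | h3
  · left
    apply Units.ext
    rw [hc, sub_eq_zero.1 h3, one_smul, Units.val_one]
  · right
    apply Units.ext
    rw [hc, eq_neg_of_add_eq_zero_left h3, neg_one_smul, Units.val_neg, Units.val_one]

/-- the eigenspace -/
def Eig (s : GL ι K) (ε : K) : Submodule K (ι → K) where
  carrier := {v | (s : Matrix ι ι K) *ᵥ v = ε • v}
  add_mem' {a b} ha hb := by
    change _ = _ at ha hb ⊢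
    rw [mulVec_add, ha, hb, smul_add]
  zero_mem' := by
    change _ = _
    rw [mulVec_zero, smul_zero]
  smul_mem' c a ha := by
    change _ = _ at ha ⊢
    rw [mulVec_smul, ha, smul_comm]

variable {s : GL ι K} {ε : K}

theorem mem_eig {v : ι → K} : v ∈ Eig s ε ↔ (s : Matrix ι ι K) *ᵥ v = ε • v := Iff.rfl

theorem eig_split (h2 : (2 : K) ≠ 0) (hs : s * s = 1) (hε : ε * ε = 1) (v : ι → K) :
    ∃ a ∈ Eig s ε, ∃ b ∈ Eig s (-ε), a + b = v := by
  have h1 : (s : Matrix ι ι K) *ᵥ ((s : Matrix ι ι K) *ᵥ v) = v := by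
    rw [mulVec_mulVec, ← Units.val_mul, hs, Units.val_one, one_mulVec]
  refine ⟨(2 : K)⁻¹ • (v + ε • (s : Matrix ι ι K) *ᵥ v), Submodule.smul_mem _ _ ?_,
    (2 : K)⁻¹ • (v - ε • (s : Matrix ι ι K) *ᵥ v), Submodule.smul_mem _ _ ?_, ?_⟩
  · rw [mem_eig, mulVec_add, mulVec_smul, h1, smul_add, smul_smul, hε, one_smul, add_comm]
  · rw [mem_eig, mulVec_sub, mulVec_smul, h1, smul_sub, smul_smul, neg_mul, hε, neg_smul, neg_smul, one_smul]
    abel
  · match_scalars
    · field_simp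
      ring
    · ring

theorem eig_disj (h2 : (2 : K) ≠ 0) (hε : ε * ε = 1) {v : ι → K} (h : v ∈ Eig s ε) (h' : v ∈ Eig s (-ε)) : v = 0 := by
  rw [mem_eig] at h h'
  have h1 : (2 * ε) • v = 0 := by
    rw [two_mul, add_smul]
    nth_rewrite 1 [← h]
    rw [h', neg_smul, neg_add_cancel]
  exact (smul_eq_zero.1 h1).resolve_left (mul_ne_zero h2 (left_ne_zero_of_mul_eq_one hε))

theorem finrank_eig_add (h2 : (2 : K) ≠ 0) (hs : s * s = 1) (hε : ε * ε = 1) :
    finrank K (Eig s ε) + finrank K (Eig s (-ε)) = Fintype.card ι := by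
  rw [← Module.finrank_fintype_fun_eq_card K]
  refine Submodule.finrank_add_eq_of_isCompl ⟨?_, ?_⟩
  · exact Submodule.disjoint_def.2 fun v h h' => eig_disj h2 hε h h'
  · rw [codisjoint_iff, eq_top_iff]
    exact fun v _ => Submodule.mem_sup.2 (eig_split h2 hs hε v)

theorem eig_orth (hQ : IsNondegenerateQuadraticForm Q) (h2 : (2 : K) ≠ 0) (hi : s ∈ isometryGroup K Q) (hε : ε * ε = 1)
    {u w : ι → K} (hu : u ∈ Eig s (-ε)) (hw : w ∈ Eig s ε) : polar Q u w = 0 := by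
  have h1 := Ix.polar_iso hi u w
  rw [mem_eig.1 hu, mem_eig.1 hw] at h1
  change polar (qf hQ) _ _ = polar (qf hQ) _ _ at h1
  rw [polar_smul_left, polar_smul_right, smul_eq_mul, smul_eq_mul] at h1
  change polar (qf hQ) _ _ = 0
  apply mul_left_cancel₀ h2
  linear_combination -h1 - polar (qf hQ) u w * hε

theorem eig_nd' (hQ : IsNondegenerateQuadraticForm Q) (h2 : (2 : K) ≠ 0) (hi : s ∈ isometryGroup K Q) (hs : s * s = 1)
    (hε : ε * ε = 1) {x : ι → K} (hx : x ∈ Eig s ε) (h : ∀ y ∈ Eig s ε, polar (qf hQ) x y = 0) : x = 0 := by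
  refine nondeg_qf hQ x fun y => ?_
  obtain ⟨a, ha, b, hb, rfl⟩ := eig_split h2 hs hε y
  rw [polar_add_right, h a ha, zero_add, polar_comm]
  exact eig_orth hQ h2 hi hε hb hx

theorem eig_nd (hQ : IsNondegenerateQuadraticForm Q) (h2 : (2 : K) ≠ 0) (hi : s ∈ isometryGroup K Q) (hs : s * s = 1)
    (hε : ε * ε = 1) : IsNondegenerateOn (polar Q) (Eig s ε) :=
  Ix.ndOn_of_nondeg hQ (H955.nondeg_res_iff.2 fun _ hx h => eig_nd' hQ h2 hi hs hε hx h)

theorem eig_two (hQ : IsNondegenerateQuadraticForm Q) (h2 : (2 : K) ≠ 0) (hi : s ∈ omegaGL Q) (hs : s * s = 1)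
    (hε : ε * ε = 1) (hn : s ∉ scalars ι K) (he : Even (Fintype.card ι)) : 2 ≤ finrank K (Eig s ε) := by
  have hi' := H925.omegaGL_le_iso Q hi
  have hε0 : ε ≠ 0 := left_ne_zero_of_mul_eq_one hε
  by_contra hlt
  obtain ⟨w, hw⟩ : ∃ w : Eig s ε, ∀ x, ∃ c : K, c • w = x := finrank_le_one_iff.1 (show finrank K (Eig s ε) ≤ 1 by omega)
  by_cases hw0 : w = 0
  · refine hn ((mem_scalars_iff _).2 ⟨Units.mk0 (-ε) (neg_ne_zero.2 hε0), ?_⟩)
    refine Matrix.ext_iff_mulVec.2 fun v => ?_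
    obtain ⟨a, ha, b, hb, rfl⟩ := eig_split h2 hs hε v
    obtain ⟨c, hc⟩ := hw ⟨a, ha⟩
    rw [hw0, smul_zero] at hc
    have h1 : a = 0 := (congrArg Subtype.val hc).symm
    rw [h1, zero_add, mem_eig.1 hb, Units.val_mk0, Matrix.smul_mulVec, one_mulVec]
  · have hQw : qf hQ w ≠ 0 := by
      intro h0
      refine hw0 (Subtype.ext (eig_nd' hQ h2 hi' hs hε w.2 fun y hy => ?_))
      obtain ⟨c, hc⟩ := hw ⟨y, hy⟩
      rw [show y = c • (w : ι → K) from (congrArg Subtype.val hc).symm, polar_smul_right,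
        LieClassical.OrthCore.polar_self', h0, mul_zero, smul_zero]
    have hz := isZ_refl hQw
    have h1 : Matrix.toLin' (s : Matrix ι ι K) = (-ε) • (LieClassical.OrthCore.refl (qf hQ) w hQw).toLinearMap := by
      refine LinearMap.ext fun v => ?_
      obtain ⟨a, ha, b, hb, rfl⟩ := eig_split h2 hs hε v
      obtain ⟨c, hc⟩ := hw ⟨a, ha⟩
      have h3 : -(LieClassical.OrthCore.refl (qf hQ) w hQw w) = w := hz.fix
      have h4 : -(LieClassical.OrthCore.refl (qf hQ) w hQw b) = -b :=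
        hz.neg b (by rw [polar_comm]; exact eig_orth hQ h2 hi' hε hb w.2)
      rw [Matrix.toLin'_apply, mulVec_add, mem_eig.1 ha, mem_eig.1 hb, LinearMap.smul_apply, LinearEquiv.coe_coe,
        show a = c • (w : ι → K) from (congrArg Subtype.val hc).symm, map_add, map_smul, neg_injective h4,
        neg_eq_iff_eq_neg.1 h3]
      module
    have h3 : (s : Matrix ι ι K).det = 1 :=
      congrArg Units.val (show Matrix.GeneralLinearGroup.det s = 1 from H922.omegaGL_le_specialLinear Q hi)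
    rw [← LinearMap.det_toLin', h1, LinearMap.det_smul, ← LinearEquiv.coe_det, H160.QSpin.det_refl,
      Module.finrank_fintype_fun_eq_card, he.neg_pow] at h3
    obtain ⟨k, hk⟩ := he
    rw [hk, ← two_mul, pow_mul, pow_two, hε, one_pow, one_mul, Units.val_neg, Units.val_one] at h3
    apply h2
    linear_combination -h3

theorem finrank_eig_conj (y : GL ι K) : finrank K (Eig (y⁻¹ * s * y) ε) = finrank K (Eig s ε) := by
  rw [← LinearEquiv.finrank_map_eq (LieClassical.OrthFinite.glEquiv ι K y)]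
  refine congrArg (fun W : Submodule K (ι → K) => finrank K W) ?_
  ext v
  obtain ⟨v, rfl⟩ := (LieClassical.OrthFinite.glEquiv ι K y).surjective v
  rw [Submodule.mem_map_equiv, LinearEquiv.symm_apply_apply, mem_eig, mem_eig, LieClassical.OrthFinite.glEquiv_apply,
    ← (LieClassical.OrthFinite.glEquiv ι K y).injective.eq_iff, LieClassical.OrthFinite.glEquiv_apply,
    LieClassical.OrthFinite.glEquiv_apply, mulVec_smul, mulVec_mulVec, mulVec_mulVec, ← Units.val_mul, ← Units.val_mul,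
    ← mul_assoc, ← mul_assoc, mul_inv_cancel, one_mul]

theorem cent_eig {g : GL ι K} (hg : g ∈ centralizer {s}) {u : ι → K} (hu : u ∈ Eig s ε) :
    (g : Matrix ι ι K) *ᵥ u ∈ Eig s ε := by
  rw [mem_eig, mulVec_mulVec, ← Units.val_mul, ← mem_centralizer_singleton_iff.1 hg, Units.val_mul, ← mulVec_mulVec,
    mem_eig.1 hu, mulVec_smul]

theorem line_eq (hQ : IsNondegenerateQuadraticForm Q) {v w : ι → K} (hw : w ≠ 0)
    (h : subspaceStabilizer (Submodule.span K {w}) = subspaceStabilizer (Submodule.span K {v})) : ∃ c : K, v = c • w := by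
  by_contra hc
  push Not at hc
  obtain ⟨y, h1, h2⟩ := LieClassical.OrthTrans.exists_sep (nondeg_qf hQ) hc
  rw [polar_comm] at h1 h2
  let f : K → (ι → K) →ₗ[K] (ι → K) := fun t => LinearMap.id + t • (polarBilin (qf hQ) y).smulRight w
  have hf : ∀ t x, f t x = x + (t * polar (qf hQ) y x) • w := fun t x => by
    simp only [f, LinearMap.add_apply, LinearMap.id_apply, LinearMap.smul_apply, LinearMap.smulRight_apply,
      polarBilin_apply_apply, smul_smul]
  have hff : ∀ t, f t ∘ₗ f (-t) = LinearMap.id := fun t => LinearMap.ext fun x => by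
    rw [LinearMap.comp_apply, hf, hf, polar_add_right, polar_smul_right, h1, LinearMap.id_apply]
    module
  let e : (ι → K) ≃ₗ[K] (ι → K) := LinearEquiv.ofLinearMap (f 1) (f (-1)) (hff 1) (by simpa using hff (-1))
  obtain ⟨g, hg⟩ := (LieClassical.OrthFinite.glEquiv ι K).surjective e
  have hg' : ∀ x, (g : Matrix ι ι K) *ᵥ x = x + polar (qf hQ) y x • w := fun x => by
    rw [← LieClassical.OrthFinite.glEquiv_apply, hg]
    change f 1 x = _
    rw [hf, one_mul]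
  have h3 : g ∈ subspaceStabilizer (Submodule.span K {w}) :=
    Ix.mem_stab_point.2 ⟨1, by rw [hg', h1, zero_smul, add_zero, one_smul]⟩
  rw [h] at h3
  obtain ⟨c, h4⟩ := Ix.mem_stab_point.1 h3
  rw [hg', h2, one_smul] at h4
  have h5 : w = (c - 1) • v := by
    rw [sub_smul, ← h4, one_smul, add_sub_cancel_left]
  have h6 : c - 1 ≠ 0 := by
    intro h0
    rw [h0, zero_smul] at h5
    exact hw h5
  exact hc (c - 1)⁻¹ (by rw [h5, smul_smul, inv_mul_cancel₀ h6, one_smul])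

end eig

theorem arith {q j sz a b M : ℕ} (hq : 3 ≤ q) (h1 : sz * 2 = q ^ 7 * (q ^ 8 - 1)) (h2 : j * sz = a * b) (h3 : 2 * a ≤ M)
    (h4 : b ≤ q ^ 4 * (q ^ 4 + 1)) : j * (q ^ 3 * (q ^ 4 - 1)) ≤ M := by
  have q4 : 81 ≤ q ^ 4 := Nat.pow_le_pow_left hq 4
  obtain ⟨t, ht⟩ : ∃ t, q ^ 4 = t + 1 := ⟨q ^ 4 - 1, by omega⟩
  have e8 : q ^ 8 = t * (t + 2) + 1 := by
    rw [show q ^ 8 = q ^ 4 * q ^ 4 by ring, ht]; ring
  rw [e8, Nat.add_sub_cancel, show q ^ 7 = q ^ 3 * q ^ 4 by ring, ht] at h1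
  rw [ht] at h4
  rw [ht, Nat.add_sub_cancel]
  refine Nat.le_of_mul_le_mul_right (c := (t + 1) * (t + 1 + 1)) ?_ (by positivity)
  calc j * (q ^ 3 * t) * ((t + 1) * (t + 1 + 1)) = j * (sz * 2) := by rw [h1]; ring
    _ = 2 * a * b := by rw [← mul_assoc, h2]; ring
    _ ≤ _ := Nat.mul_le_mul h3 h4

section key

variable {n : ℕ} {K : Type} [Field K] [Fintype K] {Q : (Fin n → K) → K} {Y P : Subgroup (GL (Fin n) K)}

theorem card_small (hQ : IsNondegenerateQuadraticForm Q) (hq : Odd (Fintype.card K)) {W : Submodule K (Fin n → K)}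
    (hW : IsNondegenerateOn (polar Q) W) (hd : finrank K W ≤ 7) {c : K} (hc : c ≠ 0) :
    {w | w ∈ W ∧ Q w = c}.ncard < Fintype.card K ^ 3 * (Fintype.card K ^ 4 - 1) := by
  have h3 : 3 ≤ Fintype.card K := by
    have := Fintype.one_lt_card (α := K)
    obtain ⟨k, hk⟩ := hq
    omega
  have q3 : 27 ≤ Fintype.card K ^ 3 := Nat.pow_le_pow_left h3 3
  have key : Fintype.card K ^ 3 * (Fintype.card K ^ 3 + 1) < Fintype.card K ^ 3 * (Fintype.card K ^ 4 - 1) := by
    refine Nat.mul_lt_mul_of_pos_left ?_ (by omega)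
    have : 3 * Fintype.card K ^ 3 ≤ Fintype.card K ^ 4 := by
      rw [pow_succ' _ 3]
      exact Nat.mul_le_mul_right _ h3
    omega
  refine lt_of_le_of_lt ?_ key
  rcases hd.eq_or_lt with h7 | h7
  · exact Ix.ncard_le_odd hQ hq hW (k := 3) h7 hc
  · have h1 : {w | w ∈ W ∧ Q w = c}.ncard ≤ (W : Set (Fin n → K)).ncard :=
      Set.ncard_le_ncard (fun _ h => h.1) (Set.toFinite _)
    have h2 : (W : Set (Fin n → K)).ncard = Fintype.card K ^ finrank K W := by
      rw [← Nat.card_coe_set_eq, ← Nat.card_eq_fintype_card]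
      exact Module.natCard_eq_pow_finrank
    have h4 : Fintype.card K ^ finrank K W ≤ Fintype.card K ^ 6 := Nat.pow_le_pow_right (by omega) (by omega)
    calc _ ≤ Fintype.card K ^ 6 := by omega
      _ = Fintype.card K ^ 3 * Fintype.card K ^ 3 := by ring
      _ ≤ _ := Nat.mul_le_mul_left _ (by omega)

theorem conj_Z (hc : IsResidualCore Y P) {q : ℕ} {Z : Set (H915.LD.Soc P)} (hZ : Pack (H915.LD.Soc P) q Z) {y : GL (Fin n) K} (hy : y ∈ Y)
    {s : P} (hs : toSoc P s ∈ Z) : toSoc P ⟨y * s * y⁻¹, hc.normal y hy s s.2⟩ ∈ Z :=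
  hZ.aut (H100.Ppd.conjSoc hc.absIrred ⟨y, H100.Ppd.mem_normalizer (hc.normal y hy)⟩) _ hs

theorem relIndex_cent_le (hQ : IsNondegenerateQuadraticForm Q) {v : Fin n → K} (hv : Q v ≠ 0) (hc : IsResidualCore Y P)
    (hle : Y ≤ omegaGL Q) {q : ℕ} {Z : Set (H915.LD.Soc P)} (hZ : Pack (H915.LD.Soc P) q Z) {s : P} (hs : toSoc P s ∈ Z) :
    (centralizer {(s : GL (Fin n) K)}).relIndex Y ≤ q ^ 4 * (q ^ 4 + 1) := by
  rw [relIndex_centralizer, ← hZ.ncard]
  let σ : H915.LD.Soc P → GL (Fin n) K := fun t => (Function.surjInv (toSoc_surjective P) t : P)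
  have h1 : {b | ∃ g ∈ Y, g * (s : GL (Fin n) K) * g⁻¹ = b} ⊆ σ '' Z ∪ (fun t => -σ t) '' Z := by
    rintro _ ⟨y, hy, rfl⟩
    have h2 := conj_Z hc hZ hy hs
    set x : P := ⟨y * s * y⁻¹, hc.normal y hy s s.2⟩ with hx
    have h3 : (Function.surjInv (toSoc_surjective P) (toSoc P x))⁻¹ * x ∈ (toSoc P).ker := by
      rw [MonoidHom.mem_ker, map_mul, map_inv, Function.surjInv_eq (toSoc_surjective P), inv_mul_cancel]
    rw [ker_toSoc, mem_subgroupOf] at h3
    rcases scal hQ hv (H925.omegaGL_le_iso Q (hle (hc.le (Subtype.prop _)))) h3 with h4 | h4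
    · exact Or.inl ⟨_, h2, inv_mul_eq_one.1 h4⟩
    · refine Or.inr ⟨_, h2, ?_⟩
      have h5 : (σ (toSoc P x))⁻¹ * (x : GL (Fin n) K) = -1 := h4
      rw [inv_mul_eq_iff_eq_mul, mul_neg, mul_one] at h5
      exact h5.symm
  have h2 := Set.ncard_le_ncard h1 (Set.toFinite _)
  have h3 := Set.ncard_union_le (σ '' Z) ((fun t => -σ t) '' Z)
  have h4 := Set.ncard_image_le (s := Z) (f := σ) (Set.toFinite _)
  have h5 := Set.ncard_image_le (s := Z) (f := fun t => -σ t) (Set.toFinite _)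
  omega

theorem key (hQ : IsNondegenerateQuadraticForm Q) (hq : Odd (Fintype.card K)) (hn : Fintype.card (Fin n) = 2 * 8)
    {v : Fin n → K} (hv : Q v ≠ 0) (hc : IsResidualCore Y P) (hle : Y ≤ omegaGL Q)
    (fac : ∀ g ∈ omegaGL Q, ∃ y ∈ Y, ∃ x ∈ subspaceStabilizer (Submodule.span K {v}), g = y * x)
    (idx : (subspaceStabilizer (Submodule.span K {v})).relIndex Y * 2 = Fintype.card K ^ 7 * (Fintype.card K ^ 8 - 1))
    {Z : Set (H915.LD.Soc P)} (hZ : Pack (H915.LD.Soc P) (Fintype.card K) Z) :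
    ∃ (s : P) (ε : K), toSoc P s ∈ Z ∧ ε * ε = 1 ∧ v ∈ Eig s ε ∧ finrank K (Eig (s : GL (Fin n) K) (-ε)) = 8 ∧
      subspaceStabilizer (Submodule.span K {v}) ⊓ Y ≤ centralizer {(s : GL (Fin n) K)} := by
  have h2 := Ix.two_ne_zero_of_odd hq
  have h3 : 3 ≤ Fintype.card K := by
    have := Fintype.one_lt_card (α := K)
    obtain ⟨k, hk⟩ := hq
    omega
  have hP : ∀ x : P, (x : GL (Fin n) K) ∈ omegaGL Q := fun x => hle (hc.le x.2)
  have h0 : ∀ {w}, Q w ≠ 0 → w ≠ 0 := fun hw => ne_zero_of (Q := qf hQ) hw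
  obtain ⟨u, g, e1, e2, e3⟩ := hZ.sq
  obtain ⟨s0, s1, s2⟩ := lift_sq (toSoc P) (toSoc_surjective P) (fun x hx => by
    rw [← MonoidHom.mem_ker, ker_toSoc, mem_subgroupOf] at hx
    rcases scal hQ hv (H925.omegaGL_le_iso Q (hP x)) hx with h4 | h4
    · rw [show x = 1 from Subtype.ext h4]
      simp
    · refine ⟨Subtype.ext ?_, fun y => Subtype.ext ?_⟩
      · rw [coe_mul, h4, neg_mul_neg, one_mul, coe_one]
      · rw [coe_mul, coe_mul, h4, mul_neg, neg_mul, one_mul, mul_one]) e1 e2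
  rw [← s2] at e3
  have s3 : (s0 : GL (Fin n) K) * s0 = 1 := congrArg Subtype.val s1
  have s4 : (s0 : GL (Fin n) K) ∉ scalars (Fin n) K := fun h => hZ.ne_one _ e3 (by
    rw [← MonoidHom.mem_ker, ker_toSoc, mem_subgroupOf]; exact h)
  obtain ⟨ε, hε, hd⟩ : ∃ ε : K, ε * ε = 1 ∧ finrank K (Eig (s0 : GL (Fin n) K) ε) ≤ 8 := by
    have := finrank_eig_add h2 s3 (mul_one (1 : K))
    by_cases h : finrank K (Eig (s0 : GL (Fin n) K) (1 : K)) ≤ 8
    · exact ⟨1, mul_one _, h⟩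
    · exact ⟨-1, by ring, by omega⟩
  obtain ⟨w, hw, hwv⟩ := Ix.exists_norm hQ hq (eig_nd hQ h2 (H925.omegaGL_le_iso Q (hP s0)) s3 hε)
    (eig_two hQ h2 (hP s0) s3 hε s4 ⟨8, by omega⟩) (Q v)
  obtain ⟨g', hg', egw⟩ := H925.exists_trans hQ (by omega) (h0 hv) (h0 (by rw [hwv]; exact hv)) hwv.symm
  obtain ⟨y, hy, x, hx, rfl⟩ := fac g' hg'
  obtain ⟨c, hxc⟩ := Ix.mem_stab_point.1 hx
  rw [Units.val_mul, ← mulVec_mulVec, hxc, mulVec_smul] at egw
  have hc0 : c ≠ 0 := by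
    rintro rfl
    rw [zero_smul] at egw
    exact h0 (by rw [hwv]; exact hv) egw.symm
  have hs := conj_Z hc hZ (Y.inv_mem hy) e3
  set s : P := ⟨y⁻¹ * s0 * y⁻¹⁻¹, hc.normal _ (Y.inv_mem hy) s0 s0.2⟩ with hsdef
  have hs' : (s : GL (Fin n) K) = y⁻¹ * s0 * y := congrArg (y⁻¹ * s0 * ·) (inv_inv y)
  have t1 : (s : GL (Fin n) K) * s = 1 := by
    rw [hs']
    calc _ = y⁻¹ * ((s0 : GL (Fin n) K) * s0) * y := by group
      _ = 1 := by rw [s3, mul_one, inv_mul_cancel]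
  have t2 : finrank K (Eig (s : GL (Fin n) K) ε) ≤ 8 := by rw [hs', finrank_eig_conj]; exact hd
  have t3 : v ∈ Eig (s : GL (Fin n) K) ε := by
    have h4 : (y : Matrix (Fin n) (Fin n) K) *ᵥ v ∈ Eig (s0 : GL (Fin n) K) ε := by
      rw [← egw] at hw
      exact (Submodule.smul_mem_iff _ hc0).1 hw
    rw [mem_eig, hs', Units.val_mul, Units.val_mul, ← mulVec_mulVec, ← mulVec_mulVec, mem_eig.1 h4, mulVec_smul,
      mulVec_mulVec, ← Units.val_mul, inv_mul_cancel, Units.val_one, one_mulVec]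
  clear_value s
  have t4 := eig_nd hQ h2 (H925.omegaGL_le_iso Q (hP s)) t1 hε
  set X := subspaceStabilizer (Submodule.span K {v}) with hX
  set C := centralizer {(s : GL (Fin n) K)} with hC
  have c1 := relIndex_cent_le hQ hv hc hle hZ hs
  have c2 := Ix.two_mul_relIndex_le hQ hq (D := C ⊓ Y) (inf_le_right.trans (hle.trans (H925.omegaGL_le_iso Q)))
    (U := Eig (s : GL (Fin n) K) ε) (fun g hg u hu => cent_eig hg.1 hu) t3 (h0 hv)
  have c3 := relIndex_mul_relIndex (X ⊓ (C ⊓ Y)) (C ⊓ Y) Y inf_le_right inf_le_right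
  have c4 := relIndex_mul_relIndex (C ⊓ (X ⊓ Y)) (X ⊓ Y) Y inf_le_right inf_le_right
  rw [inf_relIndex_right, inf_relIndex_right] at c3 c4
  rw [inf_left_comm, ← c3] at c4
  have c5 := arith h3 idx c4 c2 c1
  have c6 : C.relIndex (X ⊓ Y) ≠ 0 := index_ne_zero_of_finite
  have c7 : finrank K (Eig (s : GL (Fin n) K) ε) = 8 := by
    by_contra h
    have h4 := card_small hQ hq t4 (by omega) hv
    have h5 := Nat.mul_le_mul_right (Fintype.card K ^ 3 * (Fintype.card K ^ 4 - 1)) (Nat.one_le_iff_ne_zero.2 c6)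
    omega
  have c8 := Ix.ncard_le_even hQ t4 (k := 3) c7 hv
  have c9 : C.relIndex (X ⊓ Y) = 1 := by
    by_contra h
    have h5 := Nat.mul_le_mul_right (Fintype.card K ^ 3 * (Fintype.card K ^ 4 - 1))
      (show 2 ≤ C.relIndex (X ⊓ Y) by omega)
    have h6 : Fintype.card K ^ 3 * (2 * (Fintype.card K ^ 4 - 1)) ≤ Fintype.card K ^ 3 * (Fintype.card K ^ 4 + 1) := by
      rw [mul_left_comm]
      exact h5.trans (c5.trans c8)
    have h7 := Nat.le_of_mul_le_mul_left h6 (by positivity)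
    have q4 : 81 ≤ Fintype.card K ^ 4 := Nat.pow_le_pow_left h3 4
    omega
  have := finrank_eig_add h2 t1 hε
  exact ⟨s, ε, hs, hε, t3, by omega, relIndex_eq_one.1 c9⟩

end key

end Bo

open Bo in
/-- **[CS-Bo]** -/
theorem boxBo : BoxBo := by
  intro n K _ _ k q m B Sg G X Y P h ⟨hk, hm, hq, F, _, _, hF, ⟨e⟩⟩
  subst hk hm
  have hsph := h.sph
  cases hsph with
  | p1 Q hQ hp hK hd v hv =>
  subst hK
  have h2 := Ix.two_ne_zero_of_odd hq
  have h3 : 3 ≤ Fintype.card K := by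
    have := Fintype.one_lt_card (α := K)
    obtain ⟨k, hk⟩ := hq
    omega
  obtain ⟨Z, hZ⟩ := exists_pack (Ix.two_ne_zero_of_odd (K := F) (by rw [hF]; exact hq)) e
  rw [Nat.card_eq_fintype_card, hF] at hZ
  have idx : (subspaceStabilizer (Submodule.span K {v})).relIndex Y * 2 =
      Fintype.card K ^ 7 * (Fintype.card K ^ 8 - 1) := by
    have h4 : (subspaceStabilizer (Submodule.span K {v})).relIndex Y * Nat.gcd 2 (Fintype.card K - 1) =
      Fintype.card K ^ (8 - 1) * (Fintype.card K ^ 8 - 1) := h.idx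
    rwa [Nat.gcd_eq_left (by obtain ⟨k, hk⟩ := hq; omega)] at h4
  obtain ⟨s, ε, s1, s2, s3, s4, s5⟩ := key hQ hq hd hv h.core h.le h.fac idx hZ
  have hv0 : v ≠ 0 := ne_zero_of (Q := qf hQ) hv
  have hi := H925.omegaGL_le_iso Q (h.le (h.core.le s.2))
  refine ⟨fun w hw hX => ?_, fun hY => ?_⟩
  · obtain ⟨c, rfl⟩ := line_eq hQ hv0 hX
    have h4 : c • v ∈ Eig (s : GL (Fin n) K) ε := Submodule.smul_mem _ _ s3
    exact ⟨Eig s (-ε), s4, fun g hg => Ix.mem_stab_iff.2 fun u hu => cent_eig (s5 hg) hu,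
      fun h5 => hw (eig_disj h2 s2 h4 h5), fun u hu => eig_orth hQ h2 hi s2 hu h4⟩
  · have hs := h.core.simple
    have hsc : scalars (Fin n) K ≤ subspaceStabilizer (Submodule.span K {v}) := fun g hg => by
      obtain ⟨c, hc⟩ := (mem_scalars_iff _).1 hg
      exact Ix.mem_stab_point.2 ⟨c, by rw [hc, Matrix.smul_mulVec, one_mulVec]⟩
    refine hZ.not_prm h3 s1 ⟨s, mem_subgroupOf.2 (Ix.mem_stab_point.2 ⟨ε, s3⟩), rfl⟩ ?_ ?_
    · rintro _ ⟨x, hx, rfl⟩
      have h4 : x * s = s * x := Subtype.ext (mem_centralizer_singleton_iff.1 (s5 ⟨hx, h.core.le x.2⟩))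
      rw [mem_centralizer_singleton_iff]
      change toSoc P x * toSoc P s = toSoc P s * toSoc P x
      rw [← map_mul, ← map_mul, h4]
    · have hN : (scalars (Fin n) K).Normal := ⟨fun a ha g => by
        obtain ⟨c, hc⟩ := (mem_scalars_iff _).1 ha
        refine (mem_scalars_iff _).2 ⟨c, ?_⟩
        rw [Units.val_mul, Units.val_mul, hc, Matrix.mul_smul, Matrix.mul_one, Matrix.smul_mul, ← Units.val_mul,
          mul_inv_cancel, Units.val_one]⟩
      rw [mul_comm, ← idx, relIndex_eq_of_fac h.core.le fun y hy => ?_]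
      · congr 1
        refine index_map_eq _ (toSoc_surjective P) ?_
        rw [QuotientGroup.ker_mk']
        exact subgroupOf_mono P hsc
      · obtain ⟨p, hp, t, ht, rfl⟩ := mem_sup_of_normal_right.1 (hY hy)
        exact ⟨p, hp, by rw [inv_mul_cancel_left]; exact hsc ht⟩

end Cfsg.Agent.SM.CS
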