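import Cfsg.Agent.SM.CS.Defs
import Cfsg.Agent.SM.CSi.Cnt

/-!
# SM (S3570), box CS-Bo: the abstract part (helper9)

* `Pack T q Z` : what is used about the class `Z` of `-r_a` in `Ω₉(q)`;
* `Pack.not_prm` : a subgroup of index `q⁷ (q⁸ - 1) / 2` containing and centralising a member of `Z` is not `Prm`.
-/

set_option autoImplicit false
set_option linter.unusedSectionVars false

namespace Cfsg.Agent.SM.CS.Bo

open Subgroup

/-- the data of the class of `-r_a` in `Ω₉(q)` -/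
structure Pack (T : Type) [Group T] (q : ℕ) (Z : Set T) : Prop where
  aut : ∀ φ : MulAut T, ∀ z ∈ Z, φ z ∈ Z
  cls : ∀ z ∈ Z, ∀ z' ∈ Z, ∃ g : T, g * z * g⁻¹ = z'
  ne_one : ∀ z ∈ Z, z ≠ 1
  idx : ∀ z ∈ Z, 2 * (centralizer {z}).index = q ^ 4 * (q ^ 4 + 1)
  sq : ∃ u g : T, u * (g * u * g⁻¹) = g * u * g⁻¹ * u ∧ u ^ 4 = 1 ∧ u ^ 2 * (g * u * g⁻¹) ^ 2 ∈ Z
  pair : ∀ z ∈ Z, ∀ z' ∈ Z, z ≠ z' → z * z' = z' * z →
    4 * (centralizer {z} ⊓ centralizer {z'}).index = q ^ 7 * (q ^ 8 - 1)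

section gen

variable {T T' : Type} [Group T] [Group T']

theorem map_centralizer (e : T ≃* T') (z : T) : (centralizer {z}).map e.toMonoidHom = centralizer {e z} := by
  ext x
  obtain ⟨y, rfl⟩ := e.surjective x
  rw [Subgroup.mem_map_equiv, MulEquiv.symm_apply_apply, mem_centralizer_singleton_iff, mem_centralizer_singleton_iff,
    ← map_mul, ← map_mul, e.injective.eq_iff]

theorem index_map_equiv (e : T ≃* T') (A : Subgroup T) : (A.map e.toMonoidHom).index = A.index :=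
  Subgroup.index_map_equiv A e

theorem Pack.map {q : ℕ} {Z : Set T} (h : Pack T q Z) (e : T ≃* T') : Pack T' q (e '' Z) where
  aut φ := by
    rintro _ ⟨z, hz, rfl⟩
    exact ⟨_, h.aut ((e.trans φ).trans e.symm) z hz, by simp⟩
  cls := by
    rintro _ ⟨z, hz, rfl⟩ _ ⟨z', hz', rfl⟩
    obtain ⟨g, hg⟩ := h.cls z hz z' hz'
    exact ⟨e g, by rw [← hg, map_mul, map_mul, map_inv]⟩
  ne_one := by
    rintro _ ⟨z, hz, rfl⟩ h1
    exact h.ne_one z hz (e.injective (by rw [h1, map_one]))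
  idx := by
    rintro _ ⟨z, hz, rfl⟩
    rw [← map_centralizer, index_map_equiv, h.idx z hz]
  sq := by
    obtain ⟨u, g, h1, h2, h3⟩ := h.sq
    refine ⟨e u, e g, ?_, by rw [← map_pow, h2, map_one], _, h3, ?_⟩
    · have := congrArg e h1
      simpa only [map_mul, map_inv] using this
    · simp only [map_mul, map_inv, map_pow]
  pair := by
    rintro _ ⟨z, hz, rfl⟩ _ ⟨z', hz', rfl⟩ hne hc
    rw [← map_centralizer, ← map_centralizer, ← Subgroup.map_inf _ _ _ e.injective, index_map_equiv]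
    refine h.pair z hz z' hz' (fun h0 => hne (by rw [h0])) (e.injective ?_)
    rw [map_mul, map_mul, hc]

/-- the conjugates of `z` under a subgroup -/
theorem relIndex_centralizer {Γ : Type*} [Group Γ] (H : Subgroup Γ) (z : Γ) :
    (centralizer {z}).relIndex H = {b | ∃ g ∈ H, g * z * g⁻¹ = b}.ncard := by
  let _ : MulAction Γ Γ := MulAction.compHom Γ (MulAut.conj : Γ →* MulAut Γ)
  have h1 : MulAction.stabilizer Γ z = centralizer {z} := by
    ext g
    rw [MulAction.mem_stabilizer_iff, mem_centralizer_singleton_iff]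
    change g * z * g⁻¹ = z ↔ _
    rw [mul_inv_eq_iff_eq_mul]
  rw [← h1, Ix.relIndex_stabilizer]
  rfl

theorem Pack.ncard {q : ℕ} {Z : Set T} (h : Pack T q Z) : 2 * Z.ncard = q ^ 4 * (q ^ 4 + 1) := by
  obtain ⟨u, g, -, -, hz⟩ := h.sq
  rw [← h.idx _ hz, ← relIndex_top_right, relIndex_centralizer]
  congr 2
  ext b
  constructor
  · intro hb
    obtain ⟨x, hx⟩ := h.cls _ hz b hb
    exact ⟨x, mem_top x, hx⟩
  · rintro ⟨x, -, rfl⟩
    exact h.aut (MulAut.conj x) _ hz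

/-- orbits of points `{a, b}` : `h₀` exchanges -/
theorem two_mul_relIndex {Γ α : Type*} [Group Γ] [MulAction Γ α] (H C : Subgroup Γ) {a b : α} (hab : a ≠ b)
    (hC : ∀ g, g ∈ C ↔ g • a = a ∨ g • a = b) {h₀ : Γ} (hh : h₀ ∈ H) (h0 : h₀ • a = b) :
    2 * C.relIndex H = {c | ∃ g ∈ H, g • a = c}.ncard := by
  rw [← Ix.relIndex_stabilizer]
  have h1 : MulAction.stabilizer Γ a ≤ C := fun g hg => (hC g).2 (Or.inl hg)
  have h2 : (MulAction.stabilizer Γ a).relIndex (C ⊓ H) = 2 := by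
    rw [Ix.relIndex_stabilizer, ← Set.ncard_pair hab]
    congr 1
    ext c
    constructor
    · rintro ⟨g, hg, rfl⟩
      exact (hC g).1 hg.1
    · rintro (rfl | rfl)
      · exact ⟨1, one_mem _, one_smul _ _⟩
      · exact ⟨h₀, ⟨(hC _).2 (Or.inr h0), hh⟩, h0⟩
  have h3 := relIndex_mul_relIndex (MulAction.stabilizer Γ a ⊓ (C ⊓ H)) (C ⊓ H) H inf_le_right inf_le_right
  rw [inf_relIndex_right, h2, inf_relIndex_right, ← inf_assoc, inf_eq_left.2 h1, inf_relIndex_right] at h3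
  exact h3

/-- `Y = P X` -/
theorem relIndex_eq_of_fac {Γ : Type*} [Group Γ] {P Y X : Subgroup Γ} (hP : P ≤ Y)
    (h : ∀ y ∈ Y, ∃ p ∈ P, p⁻¹ * y ∈ X) : X.relIndex Y = X.relIndex P := by
  conv_lhs => rw [← MulAction.stabilizer_quotient X, Ix.relIndex_stabilizer]
  conv_rhs => rw [← MulAction.stabilizer_quotient X, Ix.relIndex_stabilizer]
  congr 1
  ext b
  constructor
  · rintro ⟨y, hy, rfl⟩
    obtain ⟨p, hp, hx⟩ := h y hy
    refine ⟨p, hp, ?_⟩
    change ((p * 1 : Γ) : Γ ⧸ X) = ((y * 1 : Γ) : Γ ⧸ X)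
    rw [mul_one, mul_one]
    exact QuotientGroup.eq.2 hx
  · rintro ⟨p, hp, rfl⟩
    exact ⟨p, hP hp, rfl⟩

theorem Pack.not_prm [Finite T] [IsSimpleGroup T] {q : ℕ} (hq : 3 ≤ q) {Z : Set T} (h : Pack T q Z) {A : Subgroup T}
    {z : T} (hz : z ∈ Z) (hzA : z ∈ A) (hA : A ≤ centralizer {z}) (hi : 2 * A.index = q ^ 7 * (q ^ 8 - 1)) : ¬ Prm A := by
  intro hP
  have q4 : 81 ≤ q ^ 4 := Nat.pow_le_pow_left hq 4
  have q3 : 27 ≤ q ^ 3 := Nat.pow_le_pow_left hq 3
  obtain ⟨t, ht⟩ : ∃ t, q ^ 4 = t + 1 := ⟨q ^ 4 - 1, by omega⟩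
  have e1 : q ^ 7 * (q ^ 8 - 1) = q ^ 3 * t * ((t + 1) * (t + 2)) := by
    have : q ^ 8 = t * (t + 2) + 1 := by
      rw [show q ^ 8 = q ^ 4 * q ^ 4 by ring, ht]; ring
    rw [this, Nat.add_sub_cancel, show q ^ 7 = q ^ 3 * q ^ 4 by ring, ht]; ring
  have e2 : q ^ 4 * (q ^ 4 + 1) = (t + 1) * (t + 2) := by rw [ht]
  have e3 : 2 < (t + 1) * (t + 2) := by nlinarith
  have e4 : 1 < q ^ 3 * t := by nlinarith
  have hN : normalizer (A : Set T) = A := by
    rcases hP (normalizer (A : Set T)) le_normalizer (fun φ hφ => by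
      have := Subgroup.map_equiv_normalizer_eq A φ
      rw [this, hφ]) with h1 | h1
    · exact h1
    · exfalso
      have h2 : A.Normal := normalizer_eq_top_iff.1 h1
      rcases h2.eq_bot_or_eq_top with h3 | h3
      · rw [h3] at hzA
        exact h.ne_one z hz (mem_bot.1 hzA)
      · rw [h3, index_top, e1] at hi
        nlinarith
  by_cases hex : ∃ z' ∈ Z, z ≠ z' ∧ A ≤ centralizer {z'}
  · obtain ⟨z', hz', hne, hA'⟩ := hex
    have h1 := h.pair z hz z' hz' hne (mem_centralizer_singleton_iff.1 (hA' hzA))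
    have h2 : A ≤ centralizer {z} ⊓ centralizer {z'} := le_inf hA hA'
    have h3 := relIndex_mul_index h2
    have h4 : (centralizer {z} ⊓ centralizer {z'} : Subgroup T).index ≠ 0 := index_ne_zero_of_finite
    have h5 : A.relIndex (centralizer {z} ⊓ centralizer {z'}) = 2 := by
      apply Nat.eq_of_mul_eq_mul_right (Nat.pos_of_ne_zero h4)
      omega
    have h6 : (A.subgroupOf (centralizer {z} ⊓ centralizer {z'})).Normal := normal_of_index_eq_two h5
    have h7 := (normal_subgroupOf_iff_le_normalizer h2).1 h6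
    rw [hN] at h7
    rw [relIndex_eq_one.2 h7] at h5
    omega
  · have h1 := h.idx z hz
    rcases hP (centralizer {z}) hA (fun φ hφ => by
      have h2 : z = φ z := by
        by_contra hne
        refine hex ⟨φ z, h.aut φ z hz, hne, ?_⟩
        rw [← map_centralizer, ← hφ]
        exact map_mono hA
      rw [map_centralizer, ← h2]) with h2 | h2
    · rw [h2, hi, e1, e2] at h1
      nlinarith
    · rw [h2, index_top, e2] at h1
      omega

end gen

end Cfsg.Agent.SM.CS.Bo
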