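import Cfsg.Agent.SM.CSBo.A
import Cfsg.Agent.AutOrth.Main
import Cfsg.Agent.H807.IF.Odd
import Cfsg.Agent.H160.QSpin
import Cfsg.Agent.H887.IF.K0b
import Cfsg.Agent.H137.OrthWeyl
import Cfsg.Agent.H75.WittE

/-!
# SM (S3570), box CS-Bo: the class of `-r_a` in `Ω₉(q)` (helper9)

`exists_pack : ∃ Z, Pack (POmega F (quadFormOdd 4 F)) q Z`.
-/

set_option autoImplicit false
set_option linter.unusedSectionVars false

namespace Cfsg.Agent.SM.CS.Bo

open Subgroup QuadraticMap Module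
open Cfsg.Agent.LieClassical.OrthCore Cfsg.Agent.LieClassical.OrthTrans
open Cfsg.Agent.AutOrth.SemiSim (IsSemi conjL conjE conjL_apply')
open Cfsg.Agent.H955 (IsPlus res perp)

section isz

variable {F V : Type} [Field F] [AddCommGroup V] [Module F V] {Q : QuadraticForm F V} {z z' : V ≃ₗ[F] V} {a b : V}

/-- `z = - r_a` -/
structure IsZ (Q : QuadraticForm F V) (z : V ≃ₗ[F] V) (a : V) : Prop where
  ne : Q a ≠ 0
  fix : z a = a
  neg : ∀ v, polar Q a v = 0 → z v = -v

theorem IsZ.apply (h2 : (2 : F) ≠ 0) (h : IsZ Q z a) (v : V) : z v = -refl Q a h.ne v := by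
  have hne := h.ne
  have h1 : polar Q a (v - ((2 * Q a)⁻¹ * polar Q a v) • a) = 0 := by
    rw [polar_sub_right, polar_smul_right, polar_self', smul_eq_mul]
    field_simp
    ring
  have h3 := h.neg _ h1
  rw [map_sub, map_smul, h.fix, sub_eq_iff_eq_add] at h3
  rw [h3, refl_apply]
  match_scalars
  · ring
  · field_simp
    ring

theorem isZ_refl (ha : Q a ≠ 0) : IsZ Q (LinearEquiv.neg F * refl Q a ha) a := by
  refine ⟨ha, ?_, fun v hv => ?_⟩
  · change -(refl Q a ha a) = a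
    rw [refl_apply, polar_self']
    match_scalars
    field_simp
    ring
  · change -(refl Q a ha v) = -v
    rw [refl_apply, hv, mul_zero, zero_smul, sub_zero]

theorem IsZ.unique (h2 : (2 : F) ≠ 0) (h : IsZ Q z a) (h' : IsZ Q z' a) : z = z' :=
  LinearEquiv.ext fun v => by rw [h.apply h2, h'.apply h2]

theorem IsZ.smul (h : IsZ Q z a) {c : F} (hc : c ≠ 0) : IsZ Q z (c • a) := by
  refine ⟨?_, by rw [map_smul, h.fix], fun v hv => h.neg v ?_⟩
  · rw [QuadraticMap.map_smul, smul_eq_mul]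
    exact mul_ne_zero (mul_ne_zero hc hc) h.ne
  · rw [polar_smul_left, smul_eq_mul] at hv
    exact (mul_eq_zero.1 hv).resolve_left hc

theorem IsZ.neg' (h : IsZ Q z a) : IsZ Q z (-a) := by
  rw [← neg_one_smul F a]
  exact h.smul (neg_ne_zero.2 one_ne_zero)

theorem IsZ.line (h2 : (2 : F) ≠ 0) (h : IsZ Q z a) (hb : z b = b) (hQ : Q b = Q a) : b = a ∨ b = -a := by
  have h1 := h.apply h2 b
  rw [hb, refl_apply] at h1
  have h3 : b = ((2 : F)⁻¹ * ((Q a)⁻¹ * polar Q a b)) • a := by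
    rw [mul_smul, eq_inv_smul_iff₀ h2, two_smul]
    nth_rewrite 1 [h1]
    abel
  generalize (2 : F)⁻¹ * ((Q a)⁻¹ * polar Q a b) = c at h3
  rw [h3, QuadraticMap.map_smul, smul_eq_mul] at hQ
  have h4 : (c - 1) * (c + 1) = 0 := by
    apply mul_right_cancel₀ h.ne
    linear_combination hQ
  rcases mul_eq_zero.1 h4 with h5 | h5
  · left
    rw [h3, sub_eq_zero.1 h5, one_smul]
  · right
    rw [h3, eq_neg_of_add_eq_zero_left h5, neg_one_smul]

theorem IsZ.semi (h : IsZ Q z a) {M : V ≃+ V} {σ : F ≃+* F} {c : F} (hM : IsSemi Q M σ c) : IsZ Q (conjL hM z) (M a) := by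
  refine ⟨?_, by rw [conjL_apply', h.fix], fun v hv => ?_⟩
  · rw [hM.form]
    exact mul_ne_zero hM.ne ((map_ne_zero σ).2 h.ne)
  · obtain ⟨v, rfl⟩ := M.surjective v
    rw [hM.polar] at hv
    have h1 : polar Q a v = 0 := (map_eq_zero σ).1 ((mul_eq_zero.1 hv).resolve_left hM.ne)
    rw [conjL_apply', h.neg v h1, map_neg]

theorem IsZ.conj (h : IsZ Q z a) {g : V ≃ₗ[F] V} (hg : g ∈ O Q) : IsZ Q (g * z * g⁻¹) (g a) := by
  have key : ∀ v, (g * z * g⁻¹) (g v) = g (z v) := fun v => by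
    change g (z (g.symm (g v))) = _
    rw [g.symm_apply_apply]
  refine ⟨by rw [mem_O.1 hg]; exact h.ne, by rw [key, h.fix], fun v hv => ?_⟩
  obtain ⟨v, rfl⟩ := g.surjective v
  rw [polar_map hg] at hv
  rw [key, h.neg v hv, map_neg]

theorem IsZ.comm_iff (h2 : (2 : F) ≠ 0) (h : IsZ Q z a) {g : V ≃ₗ[F] V} (hg : g ∈ O Q) :
    g * z = z * g ↔ g a = a ∨ g a = -a := by
  constructor
  · intro hc
    refine h.line h2 ?_ (mem_O.1 hg a)
    change (z * g) a = _
    rw [← hc]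
    change g (z a) = _
    rw [h.fix]
  · intro hc
    have h1 := h.conj hg
    rw [← mul_inv_eq_iff_eq_mul]
    rcases hc with hc | hc
    · rw [hc] at h1
      exact h1.unique h2 h
    · rw [hc] at h1
      exact h1.unique h2 h.neg'

theorem ne_neg_of (h2 : (2 : F) ≠ 0) (ha : Q a ≠ 0) : a ≠ -a := by
  intro h
  have h1 : (2 : F) • a = 0 := by
    rw [two_smul]
    exact add_eq_zero_iff_eq_neg.2 h
  rw [(smul_eq_zero.1 h1).resolve_left h2] at ha
  exact ha (QuadraticMap.map_zero Q)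

theorem ne_zero_of (ha : Q a ≠ 0) : a ≠ 0 := by
  rintro rfl
  exact ha (QuadraticMap.map_zero Q)

theorem IsZ.norm_one [Finite F] [Finite V] (h2 : (2 : F) ≠ 0) (h : IsZ Q z a) (h' : IsZ Q z' b) (hz : z ∈ E Q)
    (hz' : z' ∈ E Q) (ha : Q a = 1) : ∃ b', Q b' = 1 ∧ IsZ Q z' b' := by
  classical
  have h1 : z * z' = refl Q a h.ne * refl Q b h'.ne := LinearEquiv.ext fun v => by
    change z (z' v) = refl Q a h.ne (refl Q b h'.ne v)
    rw [h.apply h2, h'.apply h2, map_neg, neg_neg]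
  have h3 := H887.IF.spin_E h2 (⟨z * z', (E Q).mul_mem hz hz'⟩ : E Q)
  have h4 : (⟨z * z', E_le_O ((E Q).mul_mem hz hz')⟩ : O Q) =
      ⟨refl Q a h.ne, refl_mem_O h.ne⟩ * ⟨refl Q b h'.ne, refl_mem_O h'.ne⟩ := Subtype.ext h1
  change H160.QSpin.spin Q ⟨z * z', E_le_O ((E Q).mul_mem hz hz')⟩ = 1 at h3
  rw [h4, map_mul, H160.QSpin.spin_refl h2, H160.QSpin.spin_refl h2, if_pos (by rw [ha]; exact IsSquare.one)] at h3
  have h5 : IsSquare (Q b) := by
    by_contra h6
    rw [if_neg h6] at h3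
    exact absurd h3 (by decide)
  obtain ⟨c, hc⟩ := h5
  have hc0 : c ≠ 0 := by
    rintro rfl
    exact h'.ne (by rw [hc, mul_zero])
  refine ⟨c⁻¹ • b, ?_, h'.smul (inv_ne_zero hc0)⟩
  rw [QuadraticMap.map_smul, smul_eq_mul, hc]
  field_simp

/-- the class -/
def ZS (Q : QuadraticForm F V) : Set (E Q) := {z | ∃ a, Q a = 1 ∧ IsZ Q (z : V ≃ₗ[F] V) a}

theorem mem_cent (h2 : (2 : F) ≠ 0) {z : E Q} (h : IsZ Q (z : V ≃ₗ[F] V) a) (g : E Q) :
    g ∈ centralizer {z} ↔ g • a = a ∨ g • a = -a := by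
  rw [mem_centralizer_singleton_iff, Subtype.ext_iff]
  exact h.comm_iff h2 (E_le_O g.2)

/-- a frame -/
structure Fr (Q : QuadraticForm F V) (a : V) (x y : Fin 4 → V) : Prop where
  qa : Q a = 1
  qx : ∀ i, Q (x i) = 0
  qy : ∀ i, Q (y i) = 0
  xx : ∀ i j, polar Q (x i) (x j) = 0
  yy : ∀ i j, polar Q (y i) (y j) = 0
  xy : ∀ i j, i ≠ j → polar Q (x i) (y j) = 0
  xy1 : ∀ i, polar Q (x i) (y i) = 1
  xa : ∀ i, polar Q (x i) a = 0
  ya : ∀ i, polar Q (y i) a = 0
  ext : ∀ f g : V ≃ₗ[F] V, f a = g a → (∀ i, f (x i) = g (x i)) → (∀ i, f (y i) = g (y i)) → f = g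

namespace Fr

variable {x y : Fin 4 → V} (h : Fr Q a x y)
include h

theorem yx {i j : Fin 4} (hij : i ≠ j) : polar Q (y i) (x j) = 0 := by
  rw [polar_comm]
  exact h.xy j i hij.symm

theorem hyp2 {i j : Fin 4} (hij : i ≠ j) : H137.Hyp2 Q (x i) (y i) (x j) (y j) :=
  ⟨⟨h.qx i, h.qy i, h.xy1 i⟩, ⟨h.qx j, h.qy j, h.xy1 j⟩, h.xx i j, h.xy i j hij, h.yx hij, h.yy i j⟩

theorem nn_a {i j : Fin 4} (hij : i ≠ j) : H137.nn Q (x i) (y i) (x j) (y j) a = a :=
  H137.nn_fix (h.hyp2 hij) (h.xa i) (h.ya i) (h.xa j) (h.ya j)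

theorem nn_x {i j : Fin 4} (hij : i ≠ j) (k : Fin 4) :
    H137.nn Q (x i) (y i) (x j) (y j) (x k) = if k = i then x j else if k = j then -x i else x k := by
  split_ifs with h1 h3
  · rw [h1, H137.nn_x (h.hyp2 hij)]
  · rw [h3, H137.nn_y (h.hyp2 hij)]
  · exact H137.nn_fix (h.hyp2 hij) (h.xx i k) (h.yx (Ne.symm h1)) (h.xx j k) (h.yx (Ne.symm h3))

theorem nn_y {i j : Fin 4} (hij : i ≠ j) (k : Fin 4) :
    H137.nn Q (x i) (y i) (x j) (y j) (y k) = if k = i then y j else if k = j then -y i else y k := by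
  split_ifs with h1 h3
  · rw [h1, H137.nn_x' (h.hyp2 hij)]
  · rw [h3, H137.nn_y' (h.hyp2 hij)]
  · exact H137.nn_fix (h.hyp2 hij) (h.xy i k (Ne.symm h1)) (h.yy i k) (h.xy j k (Ne.symm h3)) (h.yy j k)

theorem sq : ∃ u g : E Q, u * (g * u * g⁻¹) = g * u * g⁻¹ * u ∧ u ^ 4 = 1 ∧ u ^ 2 * (g * u * g⁻¹) ^ 2 ∈ ZS Q := by
  have ha : Q a ≠ 0 := by rw [h.qa]; exact one_ne_zero
  have hz := isZ_refl ha
  have hzx : ∀ i, (LinearEquiv.neg F * refl Q a ha : V ≃ₗ[F] V) (x i) = -x i := fun i =>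
    hz.neg _ (by rw [polar_comm]; exact h.xa i)
  have hzy : ∀ i, (LinearEquiv.neg F * refl Q a ha : V ≃ₗ[F] V) (y i) = -y i := fun i =>
    hz.neg _ (by rw [polar_comm]; exact h.ya i)
  have hza := hz.fix
  have a01 := h.nn_a (i := 0) (j := 1) (by decide)
  have a23 := h.nn_a (i := 2) (j := 3) (by decide)
  have a02 := h.nn_a (i := 0) (j := 2) (by decide)
  have a13 := h.nn_a (i := 1) (j := 3) (by decide)
  have x01 := h.nn_x (i := 0) (j := 1) (by decide)
  have x23 := h.nn_x (i := 2) (j := 3) (by decide)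
  have x02 := h.nn_x (i := 0) (j := 2) (by decide)
  have x13 := h.nn_x (i := 1) (j := 3) (by decide)
  have y01 := h.nn_y (i := 0) (j := 1) (by decide)
  have y23 := h.nn_y (i := 2) (j := 3) (by decide)
  have y02 := h.nn_y (i := 0) (j := 2) (by decide)
  have y13 := h.nn_y (i := 1) (j := 3) (by decide)
  have m01 := H137.nn_mem_E (Q := Q) (x 0) (y 0) (x 1) (y 1)
  have m23 := H137.nn_mem_E (Q := Q) (x 2) (y 2) (x 3) (y 3)
  have m02 := H137.nn_mem_E (Q := Q) (x 0) (y 0) (x 2) (y 2)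
  have m13 := H137.nn_mem_E (Q := Q) (x 1) (y 1) (x 3) (y 3)
  generalize H137.nn Q (x 0) (y 0) (x 1) (y 1) = u at *
  generalize H137.nn Q (x 2) (y 2) (x 3) (y 3) = w at *
  generalize H137.nn Q (x 0) (y 0) (x 2) (y 2) = g at *
  generalize H137.nn Q (x 1) (y 1) (x 3) (y 3) = g' at *
  generalize (LinearEquiv.neg F * refl Q a ha : V ≃ₗ[F] V) = s at *
  have e1 : g * g' * u = w * (g * g') := by
    refine h.ext _ _ ?_ (fun i => ?_) (fun i => ?_)
    · simp only [LinearEquiv.mul_apply, a01, a23, a02, a13]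
    · fin_cases i <;> simp [LinearEquiv.mul_apply, x01, x23, x02, x13]
    · fin_cases i <;> simp [LinearEquiv.mul_apply, y01, y23, y02, y13]
  have e2 : u * w = w * u := by
    refine h.ext _ _ ?_ (fun i => ?_) (fun i => ?_)
    · simp only [LinearEquiv.mul_apply, a01, a23]
    · fin_cases i <;> simp [LinearEquiv.mul_apply, x01, x23]
    · fin_cases i <;> simp [LinearEquiv.mul_apply, y01, y23]
  have e3 : u * u * (u * u) = 1 := by
    refine h.ext _ _ ?_ (fun i => ?_) (fun i => ?_)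
    · simp [LinearEquiv.mul_apply, a01]
    · fin_cases i <;> simp [LinearEquiv.mul_apply, x01]
    · fin_cases i <;> simp [LinearEquiv.mul_apply, y01]
  have e4 : u * u * (w * w) = s := by
    refine h.ext _ _ ?_ (fun i => ?_) (fun i => ?_)
    · simp only [LinearEquiv.mul_apply, a01, a23, hza]
    · fin_cases i <;> simp [LinearEquiv.mul_apply, x01, x23, hzx]
    · fin_cases i <;> simp [LinearEquiv.mul_apply, y01, y23, hzy]
  have e5 : (⟨g * g', (E Q).mul_mem m02 m13⟩ : E Q) * ⟨u, m01⟩ * (⟨g * g', (E Q).mul_mem m02 m13⟩ : E Q)⁻¹ = ⟨w, m23⟩ := by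
    rw [mul_inv_eq_iff_eq_mul]
    exact Subtype.ext e1
  refine ⟨⟨u, m01⟩, ⟨g * g', (E Q).mul_mem m02 m13⟩, ?_, ?_, a, h.qa, ?_⟩
  · rw [e5]
    exact Subtype.ext e2
  · rw [show (4 : ℕ) = 2 + 2 from rfl, pow_add, pow_two]
    exact Subtype.ext e3
  · rw [e5, pow_two, pow_two]
    change IsZ Q (u * u * (w * w)) a
    rw [e4]
    exact hz

end Fr

variable [Finite F] [FiniteDimensional F V]

theorem pack_of (h2 : (2 : F) ≠ 0) (hG : Good Q) (hd : finrank F V = 9) {x y : Fin 4 → V} (hF : Fr Q a x y)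
    (hP : IsPlus (res Q (perp Q (Submodule.span F {a})))) : Pack (E Q) (Nat.card F) (ZS Q) := by
  have hV : Finite V := Module.finite_of_finite F
  have n1 : ∀ {b : V}, Q b = 1 → Q b ≠ 0 := fun hb => by rw [hb]; exact one_ne_zero
  have tr : ∀ {b c : V}, Q b = 1 → Q c = 1 → ∃ g ∈ E Q, g b = c := fun hb hc =>
    hG.trans_norm (ne_zero_of (n1 hb)) (ne_zero_of (n1 hc)) (hb.trans hc.symm)
  have c1 : {c : V | Q c = 1}.ncard = Nat.card F ^ 4 * (Nat.card F ^ 4 + 1) := by
    have := Ix.card_norm_odd_plus h2 hG.nondeg (k := 4) hd (n1 hF.qa) hP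
    rw [hF.qa] at this
    rw [← Nat.card_coe_set_eq]
    refine this.trans (by ring)
  have c2 : ∀ b, Q b = 1 → {c : V | polar Q b c = 0 ∧ Q c = 1}.ncard = Nat.card F ^ 3 * (Nat.card F ^ 4 - 1) := by
    intro b hb
    obtain ⟨g, hg, rfl⟩ := tr hF.qa hb
    obtain ⟨p1, p2⟩ := Ix.perp_props h2 hG.nondeg (n1 hF.qa)
    have h1 := Ix.card_norm_plus' p1 (k := 3) (by omega) hP one_ne_zero
    rw [← h1, ← Nat.card_coe_set_eq]
    symm
    refine Nat.card_congr ((Equiv.subtypeSubtypeEquivSubtypeInter (· ∈ perp Q (Submodule.span F {a}))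
      fun w => Q w = 1).trans (Equiv.subtypeEquiv g.toEquiv fun w => ?_))
    change _ ↔ polar Q (g a) (g w) = 0 ∧ Q (g w) = 1
    rw [polar_map (E_le_O hg), mem_O.1 (E_le_O hg)]
    refine and_congr_left fun _ => ⟨fun hw => hw a (Submodule.mem_span_singleton_self a), fun hw t ht => ?_⟩
    obtain ⟨c, rfl⟩ := Submodule.mem_span_singleton.1 ht
    rw [polar_smul_left, hw, smul_zero]
  have idx : ∀ z ∈ ZS Q, 2 * (centralizer {z}).index = Nat.card F ^ 4 * (Nat.card F ^ 4 + 1) := by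
    rintro z ⟨b, hb, hz⟩
    obtain ⟨g, hg, hgb⟩ := tr hb (show Q (-b) = 1 by rw [QuadraticMap.map_neg, hb])
    rw [← relIndex_top_right, two_mul_relIndex ⊤ _ (ne_neg_of h2 hz.ne) (mem_cent h2 hz) (mem_top ⟨g, hg⟩) hgb, ← c1]
    congr 1
    ext c
    constructor
    · rintro ⟨g', -, rfl⟩
      exact (mem_O.1 (E_le_O g'.2) b).trans hb
    · intro hc
      obtain ⟨g', hg', e⟩ := tr hb hc
      exact ⟨⟨g', hg'⟩, mem_top _, e⟩
  refine ⟨?_, ?_, ?_, idx, hF.sq, ?_⟩
  · rintro φ z ⟨b, hb, hz⟩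
    have hc := H807.IF.center_odd hG h2 (by rw [hd]; decide)
    let e := H807.IF.quotOdd hc
    obtain ⟨M, σ, c, hM, hα⟩ := ClassicalGeometry.OrthAut4.exists_semi_P hG (by omega) ((e.trans φ).trans e.symm)
      (AutOrth.Main.pt_of_no_four hG (by omega) (fun h8 => by omega) _)
    have h1 : φ z = conjE hM z := by
      have h3 := congrArg e (hα z)
      rw [MulEquiv.trans_apply, MulEquiv.apply_symm_apply] at h3
      exact h3
    rw [h1]
    exact hz.norm_one h2 (hz.semi hM) z.2 (conjE hM z).2 hb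
  · rintro z ⟨b, hb, hz⟩ z' ⟨b', hb', hz'⟩
    obtain ⟨g, hg, rfl⟩ := tr hb hb'
    exact ⟨⟨g, hg⟩, Subtype.ext ((hz.conj (E_le_O hg)).unique h2 hz')⟩
  · rintro z ⟨b, hb, hz⟩ rfl
    obtain ⟨w, hw0, hw⟩ := exists_perp_ne (Q := Q) ![b] (by omega)
    have h1 : w = -w := hz.neg w (hw 0)
    have h3 : (2 : F) • w = 0 := by
      rw [two_smul]
      exact add_eq_zero_iff_eq_neg.2 h1
    exact hw0 ((smul_eq_zero.1 h3).resolve_left h2)
  · rintro z hzZ z' ⟨b', hb', hz'⟩ hne hc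
    have hi := idx z hzZ
    obtain ⟨b, hb, hz⟩ := hzZ
    have h1 : (z : V ≃ₗ[F] V) b' = -b' := by
      rcases (hz'.comm_iff h2 (E_le_O z.2)).1 (congrArg Subtype.val hc) with h3 | h3
      · exfalso
        rcases hz.line h2 h3 (hb'.trans hb.symm) with h4 | h4
        · rw [h4] at hz'
          exact hne (Subtype.ext (hz.unique h2 hz'))
        · rw [h4] at hz'
          exact hne (Subtype.ext (hz.neg'.unique h2 hz'))
      · exact h3
    have h3 : polar Q b b' = 0 := by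
      have h4 := polar_map (E_le_O z.2) b b'
      rw [hz.fix, h1, polar_neg_right] at h4
      apply mul_left_cancel₀ h2
      linear_combination -h4
    have li : ∀ c, polar Q b c = 0 → Q c = 1 → LinearIndependent F ![b, c] := by
      intro c h5 h6
      rw [LinearIndependent.pair_iff]
      intro s t hst
      have h7 := congrArg (polar Q b) hst
      rw [polar_add_right, polar_smul_right, polar_smul_right, h5, polar_self', hb, polar_zero_right] at h7
      have h8 : s = 0 := by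
        apply mul_left_cancel₀ h2
        simp only [smul_eq_mul] at h7
        linear_combination h7
      rw [h8, zero_smul, zero_add] at hst
      exact ⟨h8, (smul_eq_zero.1 hst).resolve_right (ne_zero_of (n1 h6))⟩
    have h4 : 2 * (centralizer {z'}).relIndex (centralizer {z}) = Nat.card F ^ 3 * (Nat.card F ^ 4 - 1) := by
      rw [two_mul_relIndex _ _ (ne_neg_of h2 hz'.ne) (mem_cent h2 hz') (mem_centralizer_singleton_iff.2 rfl) h1,
        ← c2 b hb]
      congr 1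
      ext c
      constructor
      · rintro ⟨g, hg, rfl⟩
        refine ⟨?_, (mem_O.1 (E_le_O g.2) b').trans hb'⟩
        have h5 := polar_map (E_le_O g.2) b b'
        rcases (mem_cent h2 hz g).1 hg with h6 | h6
        · rw [show (g : V ≃ₗ[F] V) b = b from h6, h3] at h5
          exact h5
        · rw [show (g : V ≃ₗ[F] V) b = -b from h6, h3, polar_neg_left, neg_eq_zero] at h5
          exact h5
      · rintro ⟨h5, h6⟩
        obtain ⟨g, hg, e⟩ := H75.OrthIdx.exists_E_map hG ![b, b'] ![b, c] (li b' h3 hb') (li c h5 h6)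
          (fun i => by fin_cases i <;> simp [hb', h6])
          (fun i j => by
            fin_cases i <;> fin_cases j <;> simp [hb', h6, h3, h5, polar_comm Q b' b, polar_comm Q c b])
          (fun d _ => by
            obtain ⟨t, ht, htd⟩ := H75.OrthIdx.exists_norm_perp hG.nondeg (Submodule.span F (Set.range ![b, b']))
              (Or.inl (by rw [finrank_span_eq_card (li b' h3 hb'), hd]; simp)) d
            exact ⟨t, htd, fun i => ht _ (Submodule.subset_span ⟨i, rfl⟩)⟩)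
        exact ⟨⟨g, hg⟩, (mem_cent h2 hz _).2 (Or.inl (e 0)), e 1⟩
    rw [← relIndex_mul_index (inf_le_left : centralizer {z} ⊓ centralizer {z'} ≤ centralizer {z}), inf_comm,
      inf_relIndex_right]
    have hq : 1 ≤ Nat.card F ^ 4 := Nat.one_le_pow _ _ Nat.card_pos
    obtain ⟨t, ht⟩ : ∃ t, Nat.card F ^ 4 = t + 1 := ⟨Nat.card F ^ 4 - 1, by omega⟩
    have e8 : Nat.card F ^ 8 = t * (t + 2) + 1 := by
      rw [show Nat.card F ^ 8 = Nat.card F ^ 4 * Nat.card F ^ 4 by ring, ht]; ring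
    rw [e8, Nat.add_sub_cancel, show Nat.card F ^ 7 = Nat.card F ^ 3 * Nat.card F ^ 4 by ring, ht]
    rw [ht, Nat.add_sub_cancel] at h4
    rw [ht] at hi
    calc _ = 2 * (centralizer {z'}).relIndex (centralizer {z}) * (2 * (centralizer {z}).index) := by ring
      _ = _ := by rw [h4, hi]; ring

end isz

section row

open Cfsg.Agent.LieClassical.OrthForms

variable {F : Type} [Field F]

theorem fr_odd : Fr (oddForm 4 F) (Pi.single (.inl ()) 1) (fun i => Pi.single (.inr (.inl i)) 1)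
    (fun i => Pi.single (.inr (.inr i)) 1) where
  qa := by rw [coe_oddForm, quadFormOdd_apply]; simp
  qx i := by rw [coe_oddForm, quadFormOdd_apply]; simp
  qy i := by rw [coe_oddForm, quadFormOdd_apply]; simp
  xx i j := by rw [polar_oddForm]; simp
  yy i j := by rw [polar_oddForm]; simp
  xy i j hij := by rw [polar_oddForm]; simp [Pi.single_apply, hij.symm]
  xy1 i := by rw [polar_oddForm]; simp [Pi.single_apply]
  xa i := by rw [polar_oddForm]; simp
  ya i := by rw [polar_oddForm]; simp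
  ext f g h1 h2 h3 := by
    refine (Pi.basisFun F _).ext' fun i => ?_
    rw [Pi.basisFun_apply]
    rcases i with i | i | i
    · exact h1
    · exact h2 i
    · exact h3 i

theorem isPlus_odd [Finite F] (h2 : (2 : F) ≠ 0) :
    IsPlus (res (oddForm 4 F) (perp (oddForm 4 F) (Submodule.span F {Pi.single (.inl ()) 1}))) := by
  obtain ⟨p1, p2⟩ := Ix.perp_props h2 (nondeg_oddForm 4 F h2) (v := Pi.single (.inl ()) 1)
    (by rw [(fr_odd (F := F)).qa]; exact one_ne_zero)
  rw [H807.IF.finrank_odd] at p2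
  let f : (Fin 4 → F) →ₗ[F] (Unit ⊕ (Fin 4 ⊕ Fin 4) → F) :=
    LinearMap.pi (Sum.elim (fun _ => 0) (Sum.elim (fun j => LinearMap.proj j) (fun _ => 0)))
  have hf : Function.Injective f := fun c d hcd => funext fun j => congrFun hcd (.inr (.inl j))
  have hle : LinearMap.range f ≤ perp (oddForm 4 F) (Submodule.span F {Pi.single (.inl ()) 1}) := by
    rintro _ ⟨c, rfl⟩ t ht
    obtain ⟨d, rfl⟩ := Submodule.mem_span_singleton.1 ht
    rw [polar_smul_left, polar_oddForm]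
    simp [f]
  refine ⟨(LinearMap.range f).comap (Submodule.subtype _), ?_, ?_⟩
  · rintro ⟨u, hu⟩ ⟨c, hc⟩
    change oddForm 4 F u = 0
    change f c = u at hc
    rw [← hc, coe_oddForm, quadFormOdd_apply]
    simp [f]
  · rw [(Submodule.comapSubtypeEquivOfLe hle).finrank_eq, LinearMap.finrank_range_of_inj hf, finrank_fin_fun]
    omega

theorem exists_pack [Finite F] (h2 : (2 : F) ≠ 0) {T : Type} [Group T] (e : T ≃* POmega F (quadFormOdd 4 F)) :
    ∃ Z, Pack T (Nat.card F) Z :=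
  ⟨_, (pack_of h2 (H807.IF.good_odd_row h2 (by omega)) (H807.IF.finrank_odd 4) fr_odd (isPlus_odd h2)).map
    (e.trans (H807.IF.eOdd h2 (by omega))).symm⟩

end row

end Cfsg.Agent.SM.CS.Bo
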